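import Groth.Agent.Cyc90.FieldExt.Basic
import Groth.Agent.Cyc90.RelDimBC

/-! Dimension functions shifted by a constant, and shifts for base changes of a curve. -/

set_option autoImplicit false
set_option backward.isDefEq.respectTransparency.types false
universe u

open CategoryTheory CategoryTheory.Limits AlgebraicGeometry TopologicalSpace

noncomputable section

namespace Groth.Agent.Cyc90.FieldExt

variable {X Y : Scheme.{u}}

theorem isSetup_spec_field_const (k : Type u) [Field k] (a : ℤ) :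
    Cyc.IsSetup (Spec (CommRingCat.of k)) (fun _ => a) :=
  ⟨(isSetup_spec_field k).1, (isSetup_spec_field k).2.1,
    fun (x y : PrimeSpectrum k) _ hne => absurd (Subsingleton.elim x y) hne⟩

lemma deltaCompat_add_const {f : X ⟶ Y} {δX : X → ℤ} {δY : Y → ℤ} (h : Cyc.DeltaCompat f δX δY)
    (a : ℤ) : Cyc.DeltaCompat f (fun x => δX x + a) (fun y => δY y + a) := fun x => by
  obtain ⟨n, hn, hd⟩ := h x
  exact ⟨n, hn, by simp only; rw [hd]; ring⟩

lemma isSetup_add_const {k : Type u} [Field k] (f : X ⟶ Spec (CommRingCat.of k))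
    [LocallyOfFiniteType f] {δ : X → ℤ} {a : ℤ} (h : Cyc.DeltaCompat f δ (fun _ => a)) (b : ℤ) :
    Cyc.IsSetup X (fun x => δ x + b) :=
  isSetup_of_lft f _ (isSetup_spec_field_const k (a + b)) _ (deltaCompat_add_const h b)

lemma divFun_add_const (δ : X → ℤ) (a : ℤ) (ξ : X) (g : X.residueField ξ) :
    Cyc.divFun (fun x => δ x + a) ξ g = Cyc.divFun δ ξ g := by
  funext x
  unfold Cyc.divFun
  by_cases h : ξ ⤳ x ∧ δ x + 1 = δ ξ
  · rw [dif_pos h, dif_pos ⟨h.1, by have := h.2; simp only; omega⟩]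
  · rw [dif_neg h, dif_neg fun h' => h ⟨h'.1, by have := h'.2; simp only at this; omega⟩]

theorem ratEquivZero_add_const {δ : X → ℤ} {k : ℤ} {α : AlgebraicCycle X ℤ}
    (h : Cyc.RatEquivZero δ k α) (a : ℤ) : Cyc.RatEquivZero (fun x => δ x + a) (k + a) α := by
  obtain ⟨ι, ξ, g, h1, h2, h3, h4⟩ := h
  exact ⟨ι, ξ, g, fun i => by simp only; rw [h1]; ring, h2, h3,
    fun x => by simp only [divFun_add_const]; exact h4 x⟩

lemma pullFun_add_const {f : X ⟶ Y} {δX : X → ℤ} {δY : Y → ℤ} {r : ℤ} (a : ℤ) (α : Y → ℤ) :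
    Cyc.pullFun f (fun x => δX x + a) δY (r + a) α = Cyc.pullFun f δX δY r α := by
  funext x
  have hiff : δX x + a = δY (f x) + (r + a) ↔ δX x = δY (f x) + r := by omega
  simp only [Cyc.pullFun, hiff]

/-- A morphism to the spectrum of a field with irreducible source of dimension `r`. -/
theorem hasRelDim_over_field {k : Type u} [Field k] {T : Scheme.{u}} [IrreducibleSpace T]
    (g : T ⟶ Spec (CommRingCat.of k)) {r : ℕ} (hdim : topologicalKrullDim T = r) :
    Cyc.HasRelDim g r := by
  intro y Z hZ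
  have : Subsingleton (Spec (CommRingCat.of k)) := inferInstanceAs (Subsingleton (PrimeSpectrum k))
  have hsurj : Function.Surjective (g.fiberι y) := fun t => by
    have : t ∈ Set.range (g.fiberι y) := by
      rw [g.range_fiberι]; exact Subsingleton.elim _ _
    exact this
  let e : ↥(g.fiber y) ≃ₜ ↥T :=
    (g.fiberι y).isEmbedding.toHomeomorphOfSurjective hsurj
  have : IrreducibleSpace ↥(g.fiber y) := by
    refine (irreducibleSpace_def _).2 ?_
    have h := ((irreducibleSpace_def _).1 ‹IrreducibleSpace T›).image e.symm e.symm.continuous.continuousOn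
    rwa [Set.top_eq_univ, Set.image_univ, e.symm.surjective.range_eq] at h
  rw [irreducibleComponents_eq_singleton] at hZ
  rw [Set.mem_singleton_iff.1 hZ,
    IsHomeomorph.topologicalKrullDim_eq _ (Homeomorph.Set.univ _).isHomeomorph,
    IsHomeomorph.topologicalKrullDim_eq _ e.isHomeomorph, hdim]

/-- The base change of a morphism of relative dimension `r` to the field shifts dimensions by `r`. -/
theorem shiftAt_bc_relDim {k : Type u} [Field k] {T Q : Scheme.{u}}
    {g : T ⟶ Spec (CommRingCat.of k)} [LocallyOfFiniteType g] {r : ℕ} (hr : Cyc.HasRelDim g r)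
    {f : X ⟶ Spec (CommRingCat.of k)} {q : Q ⟶ X} {q₂ : Q ⟶ T} (h : IsPullback q q₂ f g)
    {δQ : Q → ℤ} {δX : X → ℤ} (hδ : Cyc.DeltaCompat q δQ δX) : ShiftAt q δQ δX r := by
  intro x hx
  set e := h.flip.isoPullback with he
  have h1 : q = e.hom ≫ pullback.snd g f := h.flip.isoPullback_hom_snd.symm
  have : LocallyOfFiniteType q := by rw [h1]; infer_instance
  have hinv : ∀ w, e.inv (e.hom w) = w := fun w => by
    rw [← Scheme.Hom.comp_apply, Iso.hom_inv_id]; rfl
  have hinv' : ∀ w, e.hom (e.inv w) = w := fun w => by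
    rw [← Scheme.Hom.comp_apply, Iso.inv_hom_id]; rfl
  have hmax : E4O.IsFibreMax (pullback.snd g f) (e.hom x) := fun w hw hgw => by
    have := hx (e.inv w) (by rw [h1, Scheme.Hom.comp_apply, Scheme.Hom.comp_apply, hinv', hgw])
      (hinv x ▸ hw.map e.inv.continuous)
    rw [← this, hinv']
  rw [delta_eq_add_fdeg q hδ]
  congr 2
  calc E4O.fdeg q x = E4O.fdeg (e.hom ≫ pullback.snd g f) x := by rw [← h1]
    _ = E4O.fdeg (pullback.snd g f) (e.hom x) := E4O.fdeg_comp_openImmersion _ _ _
    _ = r := fdeg_eq_of_hasRelDim _ (hasRelDim_pullback_snd g f hr) hmax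

end Groth.Agent.Cyc90.FieldExt
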