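import Groth.Agent.Cyc90.FieldExt.Basic
import Groth.Agent.Cyc90.FieldExt.Shift

/-! Finite extensions of the base field. -/

set_option autoImplicit false
set_option backward.isDefEq.respectTransparency.types false
set_option linter.style.haveILetI false
universe u

open CategoryTheory CategoryTheory.Limits AlgebraicGeometry TopologicalSpace

noncomputable section

namespace Groth.Agent.Cyc90.FieldExt

/-- The morphism of spectra of an extension of fields. -/
abbrev extMap (k L : Type u) [Field k] [Field L] [Algebra k L] :
    Spec (CommRingCat.of L) ⟶ Spec (CommRingCat.of k) :=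
  Spec.map (CommRingCat.ofHom (algebraMap k L))

variable {k L : Type u} [Field k] [Field L] [Algebra k L]

theorem isFinite_extMap [Module.Finite k L] : IsFinite (extMap k L) :=
  (IsFinite.SpecMap_iff (f := CommRingCat.ofHom (algebraMap k L))).2
    (RingHom.finite_algebraMap.2 inferInstance)

theorem flat_extMap : Flat (extMap k L) :=
  (Flat.SpecMap_iff (f := CommRingCat.ofHom (algebraMap k L))).2
    (RingHom.flat_algebraMap_iff.2 inferInstance)

theorem deltaCompat_extMap [Module.Finite k L] :
    Cyc.DeltaCompat (extMap k L) (fun _ => 0) (fun _ => 0) := by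
  have := isFinite_extMap (k := k) (L := L)
  have h := delta_compat (extMap k L) (fun _ => 0)
  intro x
  obtain ⟨n, hn, hd⟩ := h x
  rw [delta_eq_of_quasiFinite (extMap k L) h x] at hd
  exact ⟨n, hn, hd⟩

variable {X P : Scheme.{u}} {f : X ⟶ Spec (CommRingCat.of k)} {p : P ⟶ X}
  {p₂ : P ⟶ Spec (CommRingCat.of L)} {δX : X → ℤ} {δP : P → ℤ}

/-- Finite extensions of the base field are injective up to torsion. -/
theorem pullInj_finiteExt [Module.Finite k L] [LocallyOfFiniteType f]
    (hP : IsPullback p p₂ f (extMap k L)) (hX : Cyc.DeltaCompat f δX (fun _ => 0))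
    (hδ : Cyc.DeltaCompat p₂ δP (fun _ => 0)) (n : ℤ) : PullInj p δP δX 0 n := by
  haveI : IsFinite (extMap k L) := isFinite_extMap
  haveI : Flat (extMap k L) := flat_extMap
  haveI : IsFinite p := MorphismProperty.of_isPullback hP.flip inferInstance
  haveI : Flat p := MorphismProperty.of_isPullback hP.flip inferInstance
  haveI : LocallyOfFiniteType p₂ := MorphismProperty.of_isPullback hP inferInstance
  have hXs := isSetup_of_field f δX hX
  have hPs := isSetup_of_field p₂ δP hδ
  have hcomp : Cyc.DeltaCompat (p ≫ f) δP (fun _ => 0) := by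
    rw [hP.w]; exact IntMult12.deltaCompat_trans hδ deltaCompat_extMap
  refine pullInj_finite hPs hXs p (Module.finrank k L) (fun y => ?_) Module.finrank_pos.ne'
    (deltaCompat_of_comp p f hcomp hX) n
  rw [Scheme.Hom.finrank_of_isPullback p₂ p (extMap k L) f hP.flip y,
    Scheme.Hom.finrank_SpecMap_algebraMap, Module.rankAtStalk_eq_finrank_of_free]
  rfl

end Groth.Agent.Cyc90.FieldExt
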