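import Groth.Agent.Cyc90.FieldExt.Basic
import Groth.Agent.Cyc90.GysinRat
import Groth.Agent.Cyc90.GysinPull
import Groth.Agent.Cyc90.ZeroPull
import Groth.Agent.QC70.UnitSub
import Groth.Agent.EGA73.Invertible

/-! Restricting a pulled back cycle to the zero scheme of a function. -/

set_option autoImplicit false
set_option backward.isDefEq.respectTransparency.types false
universe u

open CategoryTheory CategoryTheory.Limits AlgebraicGeometry TopologicalSpace IsLocalRing Opposite
open Groth.Agent.Cyc90.Dev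

noncomputable section

namespace Groth.Agent.Cyc90.FieldExt

variable {X W D : Scheme.{u}}

/-- The section of the structure module given by a function. -/
def fnSec (c : Γ(W, ⊤)) : Γ(Coh.structureModule W, ⊤) := QC70.toUnit c

lemma germ_fnSec (c : Γ(W, ⊤)) (x : W) :
    (Coh.structureModule W).presheaf.germ ⊤ x trivial (fnSec c) =
      QC70.unitStalkEquiv x (W.presheaf.germ ⊤ x trivial c) :=
  (QC70.unitStalkEquiv_germ (W := ⊤) trivial c).symm

lemma secFibre_mk_unit_eq_zero_iff (x : W) (a : W.presheaf.stalk x) :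
    (Submodule.Quotient.mk (QC70.unitStalkEquiv x a) : Cyc.secFibre (Coh.structureModule W) x) = 0 ↔
      a ∈ maximalIdeal (W.presheaf.stalk x) := by
  rw [Submodule.Quotient.mk_eq_zero]
  let e := QC70.unitStalkEquiv x
  have h : Submodule.map e.toLinearMap (maximalIdeal (W.presheaf.stalk x) •
      (⊤ : Submodule (W.presheaf.stalk x) (W.presheaf.stalk x))) =
      maximalIdeal (W.presheaf.stalk x) • ⊤ := by
    rw [Submodule.map_smul'', Submodule.map_top, LinearEquiv.range]
  rw [← h, Ideal.smul_eq_mul, Ideal.mul_top]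
  exact ⟨fun ⟨b, hb, e'⟩ => e.injective e' ▸ hb, fun ha => ⟨a, ha, rfl⟩⟩

lemma span_unitStalk_one (x : W) :
    Submodule.span (W.presheaf.stalk x) {QC70.unitStalkEquiv x 1} = ⊤ := by
  refine Submodule.eq_top_iff'.2 fun m => Submodule.mem_span_singleton.2
    ⟨(QC70.unitStalkEquiv x).symm m, ?_⟩
  rw [← LinearEquiv.map_smul, smul_eq_mul, mul_one, LinearEquiv.apply_symm_apply]

lemma germ_fnSec_eq_smul (c : Γ(W, ⊤)) (x : W) :
    (Coh.structureModule W).presheaf.germ ⊤ x trivial (fnSec c) =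
      W.presheaf.germ ⊤ x trivial c • QC70.unitStalkEquiv x 1 := by
  rw [germ_fnSec, ← LinearEquiv.map_smul, smul_eq_mul, mul_one]

theorem isZeroSchemeOf_fnSec (i : D ⟶ W) (c : Γ(W, ⊤))
    (hrange : Set.range i = {x | W.presheaf.germ ⊤ x trivial c ∈ maximalIdeal _})
    (hker : ∀ d : D, RingHom.ker (i.stalkMap d).hom = Ideal.span {W.presheaf.germ ⊤ (i d) trivial c}) :
    Cyc.IsZeroSchemeOf i (Coh.structureModule W) (fnSec c) := by
  refine ⟨?_, fun d => ⟨_, _, span_unitStalk_one (i d), germ_fnSec_eq_smul c (i d), hker d⟩⟩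
  rw [hrange]
  ext x
  rw [Set.mem_ofPred_eq, Set.mem_ofPred_eq, germ_fnSec, secFibre_mk_unit_eq_zero_iff]

open Classical in
/-- If a flat pullback to `W` is rationally trivial, so is that to a relative divisor of `W`. -/
theorem ratEquivZero_pull_divisor {δX : X → ℤ} {δW : W → ℤ} (hX : Cyc.IsSetup X δX)
    (hW : Cyc.IsSetup W δW) (p : W ⟶ X) (hp : ShiftAt p δW δX 1) (c : Γ(W, ⊤))
    (hreg : ∀ x : W, IsRegular (W.presheaf.germ ⊤ x trivial c))
    (i : D ⟶ W) [IsClosedImmersion i] [Flat (i ≫ p)]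
    (hD : Cyc.IsZeroSchemeOf i (Coh.structureModule W) (fnSec c))
    (hi : ShiftAt (i ≫ p) (fun d => δW (i d)) δX 0) {k : ℤ} {α : AlgebraicCycle X ℤ}
    (hα : α ∈ Cyc.Zk X δX k) (γ : AlgebraicCycle W ℤ) (hγ : ⇑γ = Cyc.pullFun p δW δX 1 ⇑α)
    (h0 : Cyc.RatEquivZero δW (k + 1) γ) (ζ : AlgebraicCycle D ℤ)
    (hζ : ⇑ζ = Cyc.pullFun (i ≫ p) (fun d => δW (i d)) δX 0 ⇑α) :
    Cyc.RatEquivZero (fun d => δW (i d)) k ζ := by
  have hL : PicF.IsInvertible (Coh.structureModule W) := EGA73.isInvertible_structureModule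
  have hreg' : ∀ x : W, Function.Injective (fun a : W.presheaf.stalk x =>
      a • ((Coh.structureModule W).presheaf.germ ⊤ x trivial) (fnSec c)) := by
    intro x a b h
    have h' : a • QC70.unitStalkEquiv x (W.presheaf.germ ⊤ x trivial c) =
        b • QC70.unitStalkEquiv x (W.presheaf.germ ⊤ x trivial c) := by
      rw [← germ_fnSec]; exact h
    rw [← LinearEquiv.map_smul, ← LinearEquiv.map_smul] at h'
    exact (hreg x).right ((QC70.unitStalkEquiv x).injective h')
  let w : (ξ : W) → Cyc.secFibre (Coh.structureModule W) ξ := fun ξ =>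
    Submodule.Quotient.mk (QC70.unitStalkEquiv ξ 1)
  have hw : ∀ ξ, w ξ ≠ 0 := fun ξ h =>
    (maximalIdeal.isMaximal _).ne_top ((Ideal.eq_top_iff_one _).2
      ((secFibre_mk_unit_eq_zero_iff ξ 1).1 h))
  refine ratEquivZero_gysin hW hL i hD h0 w hw ζ fun d => ?_
  rw [hζ, hγ]
  refine (c1Cap_gysinChoice_pullFun hW hX p 0 (by simpa using hp) hL hreg' i hD hi (k - 1) ⇑α
    (fun y hy => hα y (by omega)) w d).symm.trans ?_
  simp

end Groth.Agent.Cyc90.FieldExt
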