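import Groth.Agent.Cyc90.FieldExt.Colim
import Groth.Agent.Cyc90.FieldExt.Gysin
import Groth.Agent.Cyc90.FieldExt.FiniteExt
import Groth.Agent.Cyc90.P1Chart
import Mathlib.RingTheory.KrullDimension.PID
import Mathlib.RingTheory.AdjoinRoot
import Mathlib.RingTheory.Regular.Flat
import Mathlib.AlgebraicGeometry.Morphisms.Preimmersion

/-! Extension of the base field by a rational function field in one variable. -/

set_option autoImplicit false
set_option backward.isDefEq.respectTransparency.types false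
set_option linter.style.haveILetI false
set_option linter.unusedSectionVars false
universe u

open CategoryTheory CategoryTheory.Limits AlgebraicGeometry TopologicalSpace Polynomial IsLocalRing

noncomputable section

namespace Groth.Agent.Cyc90.FieldExt

/-- A ring map along which the target consists of fractions of the source. -/
theorem exists_isLocalization_of_fractions {A B : Type u} [CommRing A] [CommRing B] (φ : A →+* B)
    (hinj : Function.Injective φ) (h : ∀ b, ∃ r s, IsUnit (φ s) ∧ b * φ s = φ r) :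
    ∃ M : Submonoid A, letI := φ.toAlgebra; IsLocalization M B := by
  letI := φ.toAlgebra
  refine ⟨(IsUnit.submonoid B).comap φ.toMonoidHom, ⟨?_, ?_, ?_⟩⟩
  · exact fun s => s.2
  · intro b
    obtain ⟨r, s, hs, he⟩ := h b
    exact ⟨⟨r, s, hs⟩, he⟩
  · exact fun {x y} hxy => ⟨1, by rw [hinj hxy]⟩

theorem isPreimmersion_of_fractions {A B : Type u} [CommRing A] [CommRing B] (φ : A →+* B)
    (hinj : Function.Injective φ) (h : ∀ b, ∃ r s, IsUnit (φ s) ∧ b * φ s = φ r) :
    IsPreimmersion (Spec.map (CommRingCat.ofHom φ)) ∧ Flat (Spec.map (CommRingCat.ofHom φ)) := by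
  letI := φ.toAlgebra
  obtain ⟨M, hM⟩ := exists_isLocalization_of_fractions φ hinj h
  exact ⟨IsPreimmersion.of_isLocalization (R := A) (S := B) M,
    (Flat.SpecMap_iff (f := CommRingCat.ofHom φ)).2 (RingHom.flat_algebraMap_iff.2 (IsLocalization.flat B M))⟩

theorem isPrincipalIdealRing_of_fractions {A B : Type u} [CommRing A] [CommRing B]
    [IsPrincipalIdealRing A] (φ : A →+* B)
    (hinj : Function.Injective φ) (h : ∀ b, ∃ r s, IsUnit (φ s) ∧ b * φ s = φ r) :
    IsPrincipalIdealRing B := by
  letI := φ.toAlgebra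
  obtain ⟨M, hM⟩ := exists_isLocalization_of_fractions φ hinj h
  refine ⟨fun J => ?_⟩
  have hJ := IsLocalization.map_under M B J
  obtain ⟨a, ha⟩ := (inferInstance : (J.under A).IsPrincipal)
  rw [← hJ, ha]
  exact ⟨algebraMap A B a, by
    rw [← Ideal.span, Ideal.map_span, Set.image_singleton]⟩

section Stage

variable {k K : Type u} [Field k] [Field K] [Algebra k K] [Algebra k[X] K] [IsScalarTower k k[X] K]
  [IsFractionRing k[X] K]

variable (k K) in
/-- The polynomials with `g` inverted, inside the rational functions. -/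
def stage (g : k[X]) : Subalgebra k K where
  carrier := {x | ∃ (n : ℕ) (r : k[X]), x * algebraMap k[X] K g ^ n = algebraMap k[X] K r}
  mul_mem' := by
    rintro x y ⟨n, r, hx⟩ ⟨m, s, hy⟩
    refine ⟨n + m, r * s, ?_⟩
    rw [map_mul, ← hx, ← hy, pow_add]; ring
  add_mem' := by
    rintro x y ⟨n, r, hx⟩ ⟨m, s, hy⟩
    refine ⟨n + m, r * g ^ m + s * g ^ n, ?_⟩
    rw [map_add, map_mul, map_mul, map_pow, map_pow, ← hx, ← hy, pow_add]; ring
  algebraMap_mem' c := ⟨0, C c, by
    rw [pow_zero, mul_one, IsScalarTower.algebraMap_apply k k[X] K, Polynomial.algebraMap_eq]⟩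

variable (k K) in
/-- Polynomials in a stage. -/
def toStage (g : k[X]) : k[X] →+* stage k K g :=
  (algebraMap k[X] K).codRestrict (stage k K g) fun r => ⟨0, r, by rw [pow_zero, mul_one]⟩

variable {g h : k[X]}

lemma coe_toStage (r : k[X]) : (toStage k K g r : K) = algebraMap k[X] K r := rfl

lemma toStage_injective : Function.Injective (toStage k K g) := fun _ _ e =>
  IsFractionRing.injective k[X] K (congrArg Subtype.val e)

lemma algMap_ne_zero (hg : g ≠ 0) : algebraMap k[X] K g ≠ 0 := fun e =>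
  hg (IsFractionRing.injective k[X] K (e.trans (map_zero _).symm))

lemma stage_mono (hgh : g ∣ h) : stage k K g ≤ stage k K h := by
  obtain ⟨c, rfl⟩ := hgh
  rintro x ⟨n, r, hx⟩
  exact ⟨n, r * c ^ n, by rw [map_mul, map_mul, map_pow, ← hx, mul_pow]; ring⟩

lemma isUnit_toStage (hg : g ≠ 0) : IsUnit (toStage k K g g) := by
  refine IsUnit.of_mul_eq_one ⟨(algebraMap k[X] K g)⁻¹, ⟨1, 1, ?_⟩⟩ ?_
  · rw [pow_one, inv_mul_cancel₀ (algMap_ne_zero hg), map_one]
  · exact Subtype.ext (mul_inv_cancel₀ (algMap_ne_zero hg))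

lemma stage_fractions (hg : g ≠ 0) (b : stage k K g) :
    ∃ r s, IsUnit (toStage k K g s) ∧ b * toStage k K g s = toStage k K g r := by
  obtain ⟨n, r, hb⟩ := b.2
  refine ⟨r, g ^ n, by rw [map_pow]; exact (isUnit_toStage hg).pow n, Subtype.ext ?_⟩
  rw [MulMemClass.coe_mul, coe_toStage, coe_toStage, map_pow, hb]

lemma exists_stage_mem (x : K) : ∃ g : k[X], g ≠ 0 ∧ x ∈ stage k K g := by
  obtain ⟨a, b, hb, rfl⟩ := IsFractionRing.div_surjective (A := k[X]) x
  exact ⟨b, nonZeroDivisors.ne_zero hb, 1, a, by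
    rw [pow_one, div_mul_cancel₀ _ (algMap_ne_zero (nonZeroDivisors.ne_zero hb))]⟩

/-- An irreducible polynomial not dividing `g`. -/
lemma exists_irreducible_not_dvd (hg : g ≠ 0) : ∃ q : k[X], Irreducible q ∧ ¬ q ∣ g := by
  have hne : X * g + 1 ≠ 0 := fun e => by
    have := congrArg (eval 0) e
    simp at this
  have hnu : ¬ IsUnit (X * g + 1) := fun hu => by
    have h0 := natDegree_eq_zero_of_isUnit hu
    rw [natDegree_add_eq_left_of_natDegree_lt] at h0
    · rw [natDegree_mul X_ne_zero hg, natDegree_X] at h0; omega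
    · rw [natDegree_one, natDegree_mul X_ne_zero hg, natDegree_X]; omega
  obtain ⟨q, hq, hdvd⟩ := WfDvdMonoid.exists_irreducible_factor hnu hne
  refine ⟨q, hq, fun hqg => hq.not_isUnit (isUnit_of_dvd_one ?_)⟩
  exact (dvd_add_right (hqg.mul_left X)).1 hdvd

theorem flat_inclMap_stage {I : Type u} [Preorder I] (d : I → k[X]) (hd : ∀ i, d i ≠ 0)
    (hS : Monotone fun i => stage k K (d i)) {i j : I} (hij : i ≤ j) :
    IsPreimmersion (inclMap (fun i => stage k K (d i)) hS hij) ∧
      Flat (inclMap (fun i => stage k K (d i)) hS hij) := by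
  refine isPreimmersion_of_fractions _ (Subalgebra.inclusion_injective _) fun b => ?_
  obtain ⟨r, s, hs, he⟩ := stage_fractions (hd j) b
  exact ⟨toStage k K (d i) r, toStage k K (d i) s, hs, he⟩

theorem flat_valMap_stage {I : Type u} (d : I → k[X]) (i : I) :
    IsPreimmersion (valMap (fun i => stage k K (d i)) i) ∧
      Flat (valMap (fun i => stage k K (d i)) i) := by
  refine isPreimmersion_of_fractions _ Subtype.val_injective fun b => ?_
  obtain ⟨a, c, hc, rfl⟩ := IsFractionRing.div_surjective (A := k[X]) b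
  refine ⟨toStage k K (d i) a, toStage k K (d i) c, ?_, ?_⟩
  · exact isUnit_iff_ne_zero.2 (algMap_ne_zero (nonZeroDivisors.ne_zero hc))
  · exact div_mul_cancel₀ _ (algMap_ne_zero (nonZeroDivisors.ne_zero hc))

theorem locallyOfFiniteType_memMap_stage {I : Type u} (d : I → k[X]) (hd : ∀ i, d i ≠ 0) (i : I) :
    LocallyOfFiniteType (memMap (fun i => stage k K (d i)) i) := by
  rw [memMap, HasRingHomProperty.Spec_iff (P := @LocallyOfFiniteType)]
  obtain ⟨v, hv⟩ := (isUnit_toStage (K := K) (hd i)).exists_left_inv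
  let ψ : (k[X])[X] →+* stage k K (d i) := eval₂RingHom (toStage k K (d i)) v
  have hψ : Function.Surjective ψ := by
    intro b
    obtain ⟨n, r, hb⟩ := b.2
    refine ⟨C r * X ^ n, ?_⟩
    have hb' : b * toStage k K (d i) (d i) ^ n = toStage k K (d i) r := Subtype.ext (by simpa [coe_toStage] using hb)
    simp only [ψ, coe_eval₂RingHom, eval₂_mul, eval₂_C, eval₂_X_pow, ← hb']
    rw [mul_assoc, ← mul_pow, mul_comm (toStage k K (d i) (d i)) v, hv, one_pow, mul_one]
  have heq : algebraMap k (stage k K (d i)) = ψ.comp (C.comp C) := by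
    ext c
    simp [ψ, toStage, IsScalarTower.algebraMap_apply k k[X] K]
  show (algebraMap k (stage k K (d i))).FiniteType
  rw [heq]
  refine RingHom.FiniteType.comp (RingHom.FiniteType.of_surjective _ hψ) (RingHom.FiniteType.comp ?_ ?_)
  · exact RingHom.finiteType_algebraMap.2 (inferInstance : Algebra.FiniteType k[X] (k[X])[X])
  · exact RingHom.finiteType_algebraMap.2 (inferInstance : Algebra.FiniteType k k[X])

theorem hasRelDim_memMap_stage {I : Type u} (d : I → k[X]) (hd : ∀ i, d i ≠ 0) (i : I) :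
    Cyc.HasRelDim (memMap (fun i => stage k K (d i)) i) 1 := by
  haveI : IsPrincipalIdealRing (stage k K (d i)) :=
    isPrincipalIdealRing_of_fractions _ toStage_injective (stage_fractions (hd i))
  refine hasRelDim_over_field _ ?_
  show topologicalKrullDim (PrimeSpectrum (stage k K (d i))) = _
  rw [PrimeSpectrum.topologicalKrullDim_eq_ringKrullDim, IsPrincipalIdealRing.ringKrullDim_eq_one]
  · simp
  intro hF
  obtain ⟨q, hq, hqg⟩ := exists_irreducible_not_dvd (hd i)
  obtain ⟨w, hw⟩ := hF.mul_inv_cancel (a := toStage k K (d i) q) (fun e =>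
    hq.ne_zero (toStage_injective (e.trans (map_zero _).symm)))
  obtain ⟨n, r, hr⟩ := w.2
  have h1 : algebraMap k[X] K q * (w : K) = 1 := congrArg Subtype.val hw
  have : algebraMap k[X] K (d i ^ n) = algebraMap k[X] K (q * r) := by
    rw [map_pow, map_mul, ← hr, ← mul_assoc, h1, one_mul]
  exact hqg (hq.prime.dvd_of_dvd_pow ⟨r, IsFractionRing.injective k[X] K this⟩)

end Stage

section Main

variable {k K : Type u} [Field k] [Field K] [Algebra k K] [Algebra k[X] K] [IsScalarTower k k[X] K]
  [IsFractionRing k[X] K]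

variable (k) in
/-- Nonzero polynomials ordered by divisibility. -/
def Den : Type u := {g : k[X] // g ≠ 0}

instance : Preorder (Den k) where
  le a b := a.1 ∣ b.1
  le_refl a := dvd_refl a.1
  le_trans a b c := dvd_trans

instance : IsDirected (Den k) (· ≤ ·) :=
  ⟨fun a b => ⟨⟨a.1 * b.1, mul_ne_zero a.2 b.2⟩, dvd_mul_right _ _, dvd_mul_left _ _⟩⟩

instance : Nonempty (Den k) := ⟨⟨1, one_ne_zero⟩⟩

variable (k K) in
/-- The stages. -/
abbrev lineFam (i : Den k) : Subalgebra k K := stage k K i.1

lemma lineFam_mono : Monotone (lineFam k K) := fun _ _ h => stage_mono h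

variable (k K) in
/-- The dimension function of a stage, zero at the generic point. -/
def lineDelta (i : Den k) : Spec (CommRingCat.of (lineFam k K i)) → ℤ :=
  delta (memMap (lineFam k K) i) (fun _ => -1)

variable {X Q : Scheme.{u}} {f : X ⟶ Spec (CommRingCat.of k)} [LocallyOfFiniteType f] {δX : X → ℤ}
  {i : Den k} {q : Q ⟶ X} {q₂ : Q ⟶ Spec (CommRingCat.of (lineFam k K i))}

lemma eq_of_deltaCompat {Y Z : Scheme.{u}} (g : Y ⟶ Z) [LocallyOfFiniteType g] {δ δ' : Y → ℤ}
    {δZ : Z → ℤ} (h : Cyc.DeltaCompat g δ δZ) (h' : Cyc.DeltaCompat g δ' δZ) (y : Y) : δ y = δ' y := by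
  rw [delta_eq_add_fdeg g h, delta_eq_add_fdeg g h']

lemma lft_memMap (i : Den k) : LocallyOfFiniteType (memMap (lineFam k K) i) :=
  locallyOfFiniteType_memMap_stage (fun i : Den k => i.1) (fun i => i.2) i

lemma germ_spec_top {R : Type u} [CommRing R] (v : Spec (CommRingCat.of R)) (r : R) :
    (Spec (CommRingCat.of R)).presheaf.germ ⊤ v trivial ((Scheme.ΓSpecIso (CommRingCat.of R)).inv r) =
      toSt v r := rfl

variable (hsq : IsPullback q q₂ f (memMap (lineFam k K) i))
include hsq

lemma deltaCompat_stage_base : Cyc.DeltaCompat (q₂ ≫ memMap (lineFam k K) i)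
    (delta q₂ (lineDelta k K i)) (fun _ => -1) := by
  haveI := lft_memMap (K := K) i
  haveI : LocallyOfFiniteType q₂ := MorphismProperty.of_isPullback hsq inferInstance
  exact IntMult12.deltaCompat_trans (delta_compat q₂ _) (delta_compat _ _)

variable (hX : Cyc.DeltaCompat f δX (fun _ => 0))
include hX

lemma deltaCompat_stage_proj :
    Cyc.DeltaCompat q (fun x => delta q₂ (lineDelta k K i) x + 1) δX := by
  refine deltaCompat_of_comp q f ?_ hX
  rw [hsq.w]
  simpa using deltaCompat_add_const (deltaCompat_stage_base hsq) 1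

set_option maxHeartbeats 800000 in
theorem stage_spec (n : ℤ) :
    Cyc.IsSetup Q (delta q₂ (lineDelta k K i)) ∧ ShiftAt q (delta q₂ (lineDelta k K i)) δX 0 ∧
      PullInj q (delta q₂ (lineDelta k K i)) δX 0 n := by
  haveI := lft_memMap (K := K) i
  haveI : LocallyOfFiniteType q₂ := MorphismProperty.of_isPullback hsq inferInstance
  haveI : LocallyOfFiniteType q := MorphismProperty.of_isPullback hsq.flip inferInstance
  have hcb := deltaCompat_stage_base hsq
  have hq := deltaCompat_stage_proj hsq hX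
  have hset : Cyc.IsSetup Q (delta q₂ (lineDelta k K i)) :=
    isSetup_of_lft _ _ (isSetup_spec_field_const k (-1)) _ hcb
  have hset1 : Cyc.IsSetup Q (fun x => delta q₂ (lineDelta k K i) x + 1) :=
    isSetup_add_const _ hcb 1
  have hsh1 : ShiftAt q (fun x => delta q₂ (lineDelta k K i) x + 1) δX 1 := fun x hx => by
    simpa using shiftAt_bc_relDim (hasRelDim_memMap_stage (fun i : Den k => i.1) (fun i => i.2) i) hsq hq x hx
  refine ⟨hset, fun x hx => by have := hsh1 x hx; simp only at this; omega, ?_⟩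
  intro α hα γ hγ h0
  rw [add_zero] at h0
  obtain ⟨π, hπ, hπg⟩ := exists_irreducible_not_dvd i.2
  let R := lineFam k K i
  let a : R := toStage k K i.1 π
  let J : Ideal R := Ideal.span {a}
  let ψ : k[X] →ₐ[k] R ⧸ J := Polynomial.aeval (Ideal.Quotient.mk J (toStage k K i.1 Polynomial.X))
  have hψ : ∀ r, ψ r = Ideal.Quotient.mk J (toStage k K i.1 r) := fun r => by
    have hh : (ψ : k[X] →+* R ⧸ J) = (Ideal.Quotient.mk J).comp (toStage k K i.1) := by
      refine Polynomial.ringHom_ext (fun c => ?_) ?_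
      · change ψ (C c) = _
        rw [RingHom.comp_apply, show ψ (C c) = algebraMap k (R ⧸ J) c from Polynomial.aeval_C _ c]
        refine congrArg (Ideal.Quotient.mk J) (Subtype.ext ?_)
        show algebraMap k K c = _
        rw [coe_toStage, IsScalarTower.algebraMap_apply k k[X] K, Polynomial.algebraMap_eq]
      · change ψ Polynomial.X = _
        simp [ψ]
    exact RingHom.congr_fun hh r
  have hψπ : ψ π = 0 := by
    rw [hψ]; exact Ideal.Quotient.eq_zero_iff_mem.2 (Ideal.mem_span_singleton_self _)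
  obtain ⟨u, v, huv⟩ := (hπ.coprime_iff_not_dvd.2 hπg)
  have hsurj : Function.Surjective ψ := by
    intro z
    obtain ⟨b, rfl⟩ := Ideal.Quotient.mk_surjective z
    obtain ⟨m, r, hb⟩ := b.2
    refine ⟨r * v ^ m, ?_⟩
    have h1 : ψ v * ψ i.1 = 1 := by
      rw [← map_mul, ← map_one ψ, ← huv, map_add, map_mul ψ u π, hψπ, mul_zero, zero_add]
    have h2 : b * toStage k K i.1 i.1 ^ m = toStage k K i.1 r :=
      Subtype.ext (by simpa [coe_toStage] using hb)
    rw [map_mul, map_pow, hψ r, ← h2, map_mul, map_pow, ← hψ, mul_assoc, ← mul_pow, mul_comm (ψ i.1),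
      h1, one_pow, mul_one]
  haveI : Fact (Irreducible π) := ⟨hπ⟩
  let θ : AdjoinRoot π →+* R ⧸ J := Ideal.Quotient.lift _ ψ.toRingHom fun r hr => by
    obtain ⟨c, rfl⟩ := Ideal.mem_span_singleton.1 hr
    show ψ (π * c) = 0
    rw [map_mul, hψπ, zero_mul]
  have hθs : Function.Surjective θ := fun z => by
    obtain ⟨r, rfl⟩ := hsurj z
    exact ⟨AdjoinRoot.mk π r, rfl⟩
  have hJ : J ≠ ⊤ := by
    intro e
    obtain ⟨w, hw⟩ := Ideal.mem_span_singleton.1 ((Ideal.eq_top_iff_one _).1 e)
    obtain ⟨m, r, hr⟩ := w.2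
    have h1 : algebraMap k[X] K π * (w : K) = 1 := (congrArg Subtype.val hw).symm
    have : algebraMap k[X] K (i.1 ^ m) = algebraMap k[X] K (π * r) := by
      rw [map_pow, map_mul, ← hr, ← mul_assoc, h1, one_mul]
    exact hπg (hπ.prime.dvd_of_dvd_pow ⟨r, IsFractionRing.injective k[X] K this⟩)
  haveI : Nontrivial (R ⧸ J) := Ideal.Quotient.nontrivial_iff.2 hJ
  haveI : J.IsMaximal := Ideal.Quotient.maximal_of_isField _
    ((RingEquiv.ofBijective θ ⟨θ.injective, hθs⟩).symm.toMulEquiv.isField (Field.toIsField _))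
  letI : Field (R ⧸ J) := Ideal.Quotient.field J
  haveI : Module.Finite k (AdjoinRoot π) := (AdjoinRoot.powerBasis hπ.ne_zero).finite
  haveI : Module.Finite k (R ⧸ J) :=
    Module.Finite.of_surjective ({ θ with commutes' := fun c => ψ.commutes c } : AdjoinRoot π →ₐ[k] R ⧸ J).toLinearMap hθs
  let j : Spec (CommRingCat.of (R ⧸ J)) ⟶ Spec (CommRingCat.of R) :=
    Spec.map (CommRingCat.ofHom (Ideal.Quotient.mk J))
  haveI : IsClosedImmersion j :=
    IsClosedImmersion.spec_of_surjective _ Ideal.Quotient.mk_surjective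
  let ι : pullback q₂ j ⟶ Q := pullback.fst q₂ j
  have hsqD : IsPullback (ι ≫ q) (pullback.snd q₂ j) f (extMap k (R ⧸ J)) := by
    have hh := (IsPullback.of_hasPullback q₂ j).paste_horiz hsq
    have hj : j ≫ memMap (lineFam k K) i = extMap k (R ⧸ J) := (Spec.map_comp _ _).symm
    exact hj ▸ hh
  haveI : IsFinite (extMap k (R ⧸ J)) := isFinite_extMap
  haveI : Flat (extMap k (R ⧸ J)) := flat_extMap
  haveI : IsFinite (ι ≫ q) := MorphismProperty.of_isPullback hsqD.flip inferInstance
  haveI : Flat (ι ≫ q) := MorphismProperty.of_isPullback hsqD.flip inferInstance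
  let δD : ↥(pullback q₂ j) → ℤ := fun d => delta q₂ (lineDelta k K i) (ι d) + 1
  have hD₁ : Cyc.DeltaCompat (ι ≫ q) δD δX :=
    IntMult12.deltaCompat_trans (deltaCompat_preimmersion ι (fun x => delta q₂ (lineDelta k K i) x + 1)) hq
  have hD₂ : Cyc.DeltaCompat (pullback.snd q₂ j) δD (fun _ => 0) := by
    refine deltaCompat_of_comp _ (extMap k (R ⧸ J)) ?_ deltaCompat_extMap
    rw [← hsqD.w]
    exact IntMult12.deltaCompat_trans hD₁ hX
  have hDs : Cyc.IsSetup (pullback q₂ j) δD := isSetup_closedImmersion ι hset1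
  have hfl : Flat f := inferInstance
  haveI : Flat q₂ := MorphismProperty.of_isPullback hsq inferInstance
  let c : Γ(Q, ⊤) := q₂.appTop ((Scheme.ΓSpecIso (CommRingCat.of R)).inv a)
  have hgerm : ∀ x : Q, Q.presheaf.germ ⊤ x trivial c = q₂.stalkMap x (toSt (q₂ x) a) := fun x =>
    (Scheme.Hom.germ_stalkMap_apply q₂ ⊤ x trivial _).symm
  have hZ : Cyc.IsZeroSchemeOf ι (Coh.structureModule Q) (fnSec c) := by
    refine isZeroSchemeOf_fnSec ι c ?_ fun d => ?_
    · rw [Scheme.Pullback.range_fst]
      ext x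
      have hr : Set.range j = PrimeSpectrum.zeroLocus {a} := by
        refine (range_comap_of_surjective _ (Ideal.Quotient.mk J)
          Ideal.Quotient.mk_surjective).trans ?_
        rw [Ideal.mk_ker]
        exact PrimeSpectrum.zeroLocus_span _
      rw [Set.mem_preimage, hr, Set.mem_ofPred_eq, hgerm, mem_maximalIdeal, mem_nonunits_iff]
      show {a} ⊆ ((q₂ x).asIdeal : Set R) ↔ _
      rw [Set.singleton_subset_iff, SetLike.mem_coe]
      constructor
      · exact fun h hu => (isUnit_toSt_iff _ a).1 (isUnit_of_map_unit (q₂.stalkMap x).hom _ hu) h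
      · exact fun h => by_contra fun h' => h (((isUnit_toSt_iff _ a).2 h').map _)
    · refine ker_fst_stalkMap_eq q₂ j d ⊤ _ trivial trivial ?_
      exact P1L.ker_stalkMap_specMap (Ideal.Quotient.mk J) Ideal.Quotient.mk_surjective a Ideal.mk_ker _
  have hreg : ∀ x : Q, IsRegular (Q.presheaf.germ ⊤ x trivial c) := by
    intro x
    rw [hgerm]
    letI := (q₂.stalkMap x).hom.toAlgebra
    haveI : Module.Flat ((Spec (CommRingCat.of R)).presheaf.stalk (q₂ x)) (Q.presheaf.stalk x) :=
      Flat.stalkMap q₂ x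
    letI : Algebra R ((Spec (CommRingCat.of R)).presheaf.stalk (q₂ x)) := (toSt (q₂ x)).toAlgebra
    haveI : IsLocalization.AtPrime ((Spec (CommRingCat.of R)).presheaf.stalk (q₂ x)) (q₂ x).asIdeal :=
      StructureSheaf.IsLocalization.to_stalk R (q₂ x)
    haveI : IsDomain ((Spec (CommRingCat.of R)).presheaf.stalk (q₂ x)) :=
      IsLocalization.isDomain_of_atPrime ((Spec (CommRingCat.of R)).presheaf.stalk (q₂ x)) (q₂ x).asIdeal
    have ha : toSt (q₂ x) a ≠ 0 := fun e => hπ.ne_zero (toStage_injective (g := i.1) (K := K) (by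
      rw [map_zero]
      exact IsLocalization.injective (M := (q₂ x).asIdeal.primeCompl)
        ((Spec (CommRingCat.of R)).presheaf.stalk (q₂ x)) (q₂ x).asIdeal.primeCompl_le_nonZeroDivisors
        (e.trans (map_zero _).symm)))
    have := IsSMulRegular.of_flat (S := Q.presheaf.stalk x)
      ((IsLeftCancelMulZero.mul_left_cancel_of_ne_zero ha : IsLeftRegular _).isSMulRegular)
    have hl : IsLeftRegular ((q₂.stalkMap x).hom (toSt (q₂ x) a)) := this
    exact ⟨hl, fun u v h => hl (by simpa [mul_comm] using h)⟩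
  have hsD : ShiftAt (ι ≫ q) δD δX 0 := shiftAt_finite _ hD₁
  let ζ := Dev.pullHom (ι ≫ q) hDs hsD α
  have hγ1 : ⇑γ = Cyc.pullFun q (fun x => delta q₂ (lineDelta k K i) x + 1) δX 1 ⇑α := by
    rw [hγ, ← pullFun_add_const 1]; rfl
  have h1 := ratEquivZero_pull_divisor (isSetup_of_field f δX hX) hset1 q hsh1 c hreg ι hZ hsD hα γ
    hγ1 (ratEquivZero_add_const h0 1) ζ (Dev.coe_pullHom _ _ _ _)
  exact pullInj_finiteExt hsqD hX hD₂ n α hα ζ (Dev.coe_pullHom _ _ _ _) (by rwa [add_zero])

end Main

section Result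

variable {k K : Type u} [Field k] [Field K] [Algebra k K] [Algebra k[X] K] [IsScalarTower k k[X] K]
  [IsFractionRing k[X] K]

/-- Injectivity up to torsion for the extension by a rational function field. -/
theorem pullInj_line {X P : Scheme.{u}} {f : X ⟶ Spec (CommRingCat.of k)} [LocallyOfFiniteType f]
    [QuasiCompact f] {p : P ⟶ X} {p₂ : P ⟶ Spec (CommRingCat.of K)} (hP : IsPullback p p₂ f (extMap k K))
    {δX : X → ℤ} {δP : P → ℤ} (hX : Cyc.DeltaCompat f δX (fun _ => 0))
    (hδ : Cyc.DeltaCompat p₂ δP (fun _ => 0)) (n : ℤ) : PullInj p δP δX 0 n := by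
  haveI : LocallyOfFiniteType p₂ := MorphismProperty.of_isPullback hP inferInstance
  refine pullInj_of_directed (lineFam k K) lineFam_mono (fun b => ?_)
    (fun i j h => (flat_inclMap_stage (fun i : Den k => i.1) (fun i => i.2) lineFam_mono h).2)
    (fun i => (flat_valMap_stage (fun i : Den k => i.1) i).2) hP (isSetup_of_field p₂ δP hδ)
    (lineDelta k K) n (fun i Q q q₂ hsq => stage_spec hsq hX n) ?_ ?_
  · obtain ⟨g, hg, hb⟩ := exists_stage_mem (k := k) b
    exact ⟨⟨g, hg⟩, hb⟩
  · intro i j h Q R q q₂ r₂ e hsq he x _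
    haveI := (flat_inclMap_stage (K := K) (fun i : Den k => i.1) (fun i => i.2) lineFam_mono h).1
    haveI : IsPreimmersion e := MorphismProperty.of_isPullback he.flip inferInstance
    haveI := lft_memMap (K := K) i
    haveI := lft_memMap (K := K) j
    haveI : LocallyOfFiniteType q₂ := MorphismProperty.of_isPullback hsq inferInstance
    haveI : LocallyOfFiniteType r₂ := MorphismProperty.of_isPullback he inferInstance
    have h1 : Cyc.DeltaCompat (r₂ ≫ memMap (lineFam k K) j) (fun z => delta q₂ (lineDelta k K i) (e z))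
        (fun _ => -1) := by
      have := IntMult12.deltaCompat_trans (deltaCompat_preimmersion e (delta q₂ (lineDelta k K i)))
        (deltaCompat_stage_base hsq)
      rwa [← Category.assoc, he.w, Category.assoc, inclMap_memMap] at this
    rw [add_zero]
    exact eq_of_deltaCompat _ (IntMult12.deltaCompat_trans (delta_compat r₂ _) (delta_compat _ _)) h1 x
  · intro i Q q q₂ e hsq he x _
    haveI := (flat_valMap_stage (K := K) (fun i : Den k => i.1) i).1
    haveI : IsPreimmersion e := MorphismProperty.of_isPullback he.flip inferInstance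
    haveI := lft_memMap (K := K) i
    haveI : LocallyOfFiniteType q₂ := MorphismProperty.of_isPullback hsq inferInstance
    have hc : ∀ z, lineDelta k K i (valMap (lineFam k K) i z) = 0 := by
      intro z
      let η : PrimeSpectrum (lineFam k K i) := valMap (lineFam k K) i z
      have hbot : η.asIdeal = ⊥ := by
        show (z.asIdeal).comap (lineFam k K i).val.toRingHom = ⊥
        rw [Ideal.eq_bot_of_prime z.asIdeal]
        exact Ideal.comap_bot_of_injective _ Subtype.val_injective
      have hmax : E4O.IsFibreMax (memMap (lineFam k K) i) η := fun (w : PrimeSpectrum (lineFam k K i)) hw _ =>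
        PrimeSpectrum.ext (le_antisymm ((PrimeSpectrum.le_iff_specializes w η).2 hw) (hbot ▸ bot_le))
      show (-1 : ℤ) + _ = 0
      rw [fdeg_eq_of_hasRelDim _ (hasRelDim_memMap_stage (fun i : Den k => i.1) (fun i => i.2) i) hmax]
      rfl
    have h1 := Dev.deltaCompat_square' e (valMap (lineFam k K) i) p₂ q₂ he.w.symm (delta_compat q₂ _) 0 hc
    have := eq_of_deltaCompat p₂ hδ h1 x
    simpa using this

end Result

end Groth.Agent.Cyc90.FieldExt
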