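import Groth.Agent.Cyc90.FieldExt.Line
import Mathlib.FieldTheory.IntermediateField.Adjoin.Basic
import Mathlib.FieldTheory.IntermediateField.Adjoin.Algebra

/-! Injectivity up to torsion of pullback along an arbitrary extension of the base field. -/

set_option autoImplicit false
set_option backward.isDefEq.respectTransparency.types false
set_option linter.style.haveILetI false
universe u

open CategoryTheory CategoryTheory.Limits AlgebraicGeometry TopologicalSpace
open scoped IntermediateField

noncomputable section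

namespace Groth.Agent.Cyc90.FieldExt

theorem flat_specMap_field {A B : Type u} [Field A] [CommRing B] (φ : A →+* B) :
    Flat (Spec.map (CommRingCat.ofHom φ)) := by
  letI : Algebra A B := φ.toAlgebra
  exact (Flat.SpecMap_iff (f := CommRingCat.ofHom φ)).2 (RingHom.flat_algebraMap_iff.2 inferInstance)

/-- Pullback along the extension is injective up to torsion for all schemes of finite type. -/
def Descends (k L : Type u) [Field k] [Field L] [Algebra k L] : Prop :=
  ∀ (X P : Scheme.{u}) (f : X ⟶ Spec (CommRingCat.of k)) (_ : LocallyOfFiniteType f)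
    (_ : QuasiCompact f) (p : P ⟶ X) (p₂ : P ⟶ Spec (CommRingCat.of L))
    (_ : IsPullback p p₂ f (extMap k L)) (δX : X → ℤ) (δP : P → ℤ)
    (_ : Cyc.DeltaCompat f δX (fun _ => 0)) (_ : Cyc.DeltaCompat p₂ δP (fun _ => 0)) (n : ℤ),
      PullInj p δP δX 0 n

theorem descends_of_finite (k L : Type u) [Field k] [Field L] [Algebra k L] [Module.Finite k L] :
    Descends k L :=
  fun _ _ _ _ _ _ _ hP _ _ hX hδ n => pullInj_finiteExt hP hX hδ n

theorem Descends.trans {k L M : Type u} [Field k] [Field L] [Field M] [Algebra k L] [Algebra L M]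
    [Algebra k M] (hc : ∀ c, algebraMap k M c = algebraMap L M (algebraMap k L c))
    (h₁ : Descends k L) (h₂ : Descends L M) : Descends k M := by
  intro X P f hf hf' p p₂ hP δX δP hX hδ n
  let Q := pullback f (extMap k L)
  let q : Q ⟶ X := pullback.fst _ _
  let q₂ : Q ⟶ Spec (CommRingCat.of L) := pullback.snd _ _
  have hQ : IsPullback q q₂ f (extMap k L) := IsPullback.of_hasPullback _ _
  have hcomp : extMap L M ≫ extMap k L = extMap k M := by
    rw [← Spec.map_comp]
    exact congrArg Spec.map (CommRingCat.hom_ext (RingHom.ext fun c => (hc c).symm))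
  let e : P ⟶ Q := hQ.lift p (p₂ ≫ extMap L M) (by rw [Category.assoc, hcomp, hP.w])
  have he : IsPullback e p₂ q₂ (extMap L M) := by
    refine IsPullback.of_right ?_ (hQ.lift_snd _ _ _) hQ
    rw [hQ.lift_fst, hcomp]
    exact hP
  haveI : LocallyOfFiniteType q₂ := MorphismProperty.of_isPullback hQ inferInstance
  haveI : QuasiCompact q₂ := MorphismProperty.of_isPullback hQ inferInstance
  haveI : LocallyOfFiniteType p₂ := MorphismProperty.of_isPullback hP inferInstance
  haveI : Flat (extMap L M) := flat_extMap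
  haveI : Flat e := MorphismProperty.of_isPullback he.flip inferInstance
  let δQ := delta q₂ (fun _ => 0)
  have hQδ : Cyc.DeltaCompat q₂ δQ (fun _ => 0) := delta_compat q₂ _
  have := PullInj.comp (p := q) (q := e) (δX := δX) (δP := δQ) (δQ := δP) (c := 0) (c' := 0) (k := n)
    (isSetup_of_field q₂ δQ hQδ) (isSetup_of_field p₂ δP hδ) (shiftAt_fieldExt hQ hX hQδ)
    (shiftAt_fieldExt he hQδ hδ) (h₂ Q P q₂ ‹_› ‹_› e p₂ he δQ δP hQδ hδ _)
    (h₁ X Q f hf hf' q q₂ hQ δX δQ hX hQδ n)
  rw [hQ.lift_fst, add_zero] at this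
  exact this

theorem descends_adjoin_simple {k E : Type u} [Field k] [Field E] [Algebra k E] (x : E) :
    Descends k k⟮x⟯ := by
  by_cases halg : IsIntegral k x
  · haveI := IntermediateField.adjoin.finiteDimensional halg
    exact descends_of_finite _ _
  have hinj : Function.Injective (Polynomial.aeval x : Polynomial k →ₐ[k] E) :=
    transcendental_iff_injective.1 fun h => halg h.isIntegral
  let φ : Polynomial k →ₐ[k] k⟮x⟯ := Polynomial.aeval (IntermediateField.AdjoinSimple.gen k x)
  have hφ : ∀ r, (φ r : E) = Polynomial.aeval x r := fun r =>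
    (Polynomial.aeval_algHom_apply k⟮x⟯.val (IntermediateField.AdjoinSimple.gen k x) r).symm
  have hφinj : Function.Injective φ := fun a b e => hinj (by rw [← hφ, ← hφ, e])
  letI : Algebra (Polynomial k) k⟮x⟯ := φ.toRingHom.toAlgebra
  haveI : IsScalarTower k (Polynomial k) k⟮x⟯ := IsScalarTower.of_algebraMap_eq fun c => (φ.commutes c).symm
  haveI : FaithfulSMul (Polynomial k) k⟮x⟯ := (faithfulSMul_iff_algebraMap_injective _ _).2 hφinj
  haveI : IsFractionRing (Polynomial k) k⟮x⟯ := IsFractionRing.of_field _ _ fun z => by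
    obtain ⟨r, s, hz⟩ := (IntermediateField.mem_adjoin_simple_iff k (z : E)).1 z.2
    exact ⟨r, s, Subtype.ext (by
      rw [hz, IntermediateField.coe_div]
      exact congrArg₂ (· / ·) (hφ r).symm (hφ s).symm)⟩
  exact fun X P f _ _ p p₂ hP δX δP hX hδ n => pullInj_line hP hX hδ n

theorem descends_fg {k K : Type u} [Field k] [Field K] [Algebra k K] (L : IntermediateField k K)
    (hL : L.FG) : Descends k L := by
  obtain ⟨S, rfl⟩ := hL
  refine IntermediateField.induction_on_adjoin_finset S (fun L => Descends k L) ?_ fun E x _ hE => ?_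
  · haveI : Module.Finite k (⊥ : IntermediateField k K) :=
      Module.finite_of_finrank_eq_succ (n := 0) IntermediateField.finrank_bot
    exact descends_of_finite _ _
  · have h := Descends.trans (k := k) (L := ↥E) (M := ↥(IntermediateField.adjoin E {x}))
      (fun _ => rfl) hE (descends_adjoin_simple x)
    exact h

theorem descends_all (k K : Type u) [Field k] [Field K] [Algebra k K] : Descends k K := by
  intro X P f hf hf' p p₂ hP δX δP hX hδ n
  let I := {L : IntermediateField k K // L.FG}
  haveI : IsDirected I (· ≤ ·) := ⟨fun a b => ⟨⟨a.1 ⊔ b.1, IntermediateField.fg_sup a.2 b.2⟩,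
    le_sup_left (a := a.1), le_sup_right (a := a.1)⟩⟩
  haveI : Nonempty I := ⟨⟨⊥, IntermediateField.fg_bot⟩⟩
  let S : I → Subalgebra k K := fun i => i.1.toSubalgebra
  have hS : Monotone S := fun a b h => h
  have hlft : ∀ (i : I) (Q : Scheme.{u}) (q : Q ⟶ X) (q₂ : Q ⟶ Spec (CommRingCat.of (S i))),
      IsPullback q q₂ f (memMap S i) → LocallyOfFiniteType q₂ :=
    fun i Q q q₂ hsq => MorphismProperty.of_isPullback hsq inferInstance
  haveI : LocallyOfFiniteType p₂ := MorphismProperty.of_isPullback hP inferInstance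
  refine pullInj_of_directed S hS (fun b => ?_) (fun i j h => ?_) (fun i => ?_) hP
    (isSetup_of_field p₂ δP hδ) (fun _ _ => 0) n (fun i Q q q₂ hsq => ?_)
    (fun i j h Q R q q₂ r₂ e hsq he => ?_) (fun i Q q q₂ e hsq he => ?_)
  · exact ⟨⟨k⟮b⟯, IntermediateField.fg_adjoin_finset {b} |> fun h => by simpa using h⟩,
      IntermediateField.mem_adjoin_simple_self k b⟩
  · exact flat_specMap_field (A := ↥i.1) (B := ↥j.1) (Subalgebra.inclusion (hS h)).toRingHom
  · exact flat_specMap_field (A := ↥i.1) (B := K) (S i).val.toRingHom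
  · haveI := hlft i Q q q₂ hsq
    exact ⟨isSetup_of_field (k := ↥i.1) q₂ _ (delta_compat q₂ _),
      shiftAt_fieldExt (L := ↥i.1) hsq hX (delta_compat q₂ _),
      descends_fg i.1 i.2 X Q f hf hf' q q₂ hsq δX _ hX (delta_compat q₂ _) n⟩
  · haveI := hlft i Q q q₂ hsq
    haveI : LocallyOfFiniteType r₂ := MorphismProperty.of_isPullback he inferInstance
    exact shiftAt_fieldExt (k₀ := ↥i.1) (L := ↥j.1) he (delta_compat q₂ _) (delta_compat r₂ _)
  · haveI := hlft i Q q q₂ hsq
    exact shiftAt_fieldExt (k₀ := ↥i.1) he (delta_compat q₂ _) hδ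

end Groth.Agent.Cyc90.FieldExt
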